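import Cfsg.Agent.H644.KGV.Defs

/-!
# The Hasse-Davenport product formula for `2` (KGV NT2, helper521)
-/

set_option autoImplicit false

namespace Cfsg.Agent.H521.KGV.HdTwo

open Cfsg Finset Cfsg.Agent.H644.KGV

variable {K : Type} [Field K] [Fintype K]

open Classical in
theorem eta_eq {η : MulChar K ℂ} (_hK : ringChar K ≠ 2) (h1 : η ≠ 1) (h2 : η ^ 2 = 1) (c : K) :
    η c = (quadraticChar K c : ℂ) := by
  have hsq : ∀ d : K, d ≠ 0 → η d * η d = 1 := by
    intro d hd
    have h3 : (η ^ 2) d = 1 := by rw [h2]; exact MulChar.one_apply (Ne.isUnit hd)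
    rwa [MulChar.pow_apply' _ two_ne_zero, sq] at h3
  by_cases hc : c = 0
  · subst hc
    rw [MulChar.map_zero, MulChar.map_zero, Int.cast_zero]
  by_cases hcs : IsSquare c
  · rw [(quadraticChar_one_iff_isSquare hc).2 hcs]
    obtain ⟨d, rfl⟩ := hcs
    have hd : d ≠ 0 := fun h => hc (by rw [h, mul_zero])
    rw [map_mul, hsq d hd, Int.cast_one]
  · obtain ⟨g, hg⟩ : ∃ g : Kˣ, η g ≠ 1 := by
      by_contra hcon
      push Not at hcon
      apply h1
      ext g
      rw [hcon g, MulChar.one_apply g.isUnit]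
    have hg1 : η g = -1 := by
      have h3 := hsq g g.ne_zero
      rcases mul_self_eq_one_iff.1 h3 with h4 | h4
      · exact absurd h4 hg
      · exact h4
    have hgs : ¬ IsSquare (g : K) := by
      rintro ⟨d, hd⟩
      have hd0 : d ≠ 0 := fun h => g.ne_zero (by rw [hd, h, mul_zero])
      rw [hd, map_mul, hsq d hd0] at hg
      exact hg rfl
    have h3 : quadraticChar K c = -1 := quadraticChar_neg_one_iff_not_isSquare.2 hcs
    have h4 : quadraticChar K (g : K) = -1 := quadraticChar_neg_one_iff_not_isSquare.2 hgs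
    have h5 : IsSquare (c * g) := by
      rw [← quadraticChar_one_iff_isSquare (mul_ne_zero hc g.ne_zero), map_mul, h3, h4]
      norm_num
    obtain ⟨d, hd⟩ := h5
    have hd0 : d ≠ 0 := fun h => (mul_ne_zero hc g.ne_zero) (by rw [hd, h, mul_zero])
    have h6 := hsq d hd0
    rw [← map_mul, ← hd, map_mul, hg1] at h6
    rw [h3]
    push_cast
    linear_combination -h6

open Classical in
/-- the number of square roots -/
theorem card_sqrt {η : MulChar K ℂ} (hK : ringChar K ≠ 2) (h1 : η ≠ 1) (h2 : η ^ 2 = 1) (c : K) :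
    ((univ.filter fun a : K => a * a = c).card : ℂ) = 1 + η c := by
  rw [eta_eq hK h1 h2]
  have h := quadraticChar_card_sqrts hK c
  have e : {x : K | x ^ 2 = c}.toFinset = univ.filter fun a : K => a * a = c := by
    ext x
    simp [sq]
  rw [e] at h
  have h3 : (((univ.filter fun a : K => a * a = c).card : ℤ) : ℂ) = ((quadraticChar K c + 1 : ℤ) : ℂ) := by
    rw [h]
  push_cast at h3
  rw [h3]; ring

open Classical in
theorem star {η : MulChar K ℂ} (hK : ringChar K ≠ 2) (h1 : η ≠ 1) (h2 : η ^ 2 = 1) (s a : K) (ha : a ≠ 0) :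
    ∑ x ∈ univ.filter (fun x : K => x * (s - x) = a * a), η x = η (s - 2 * a) + η (s + 2 * a) := by
  have h20 : (2 : K) ≠ 0 := Ring.two_ne_zero hK
  have hsq : ∀ d : K, d ≠ 0 → η d * η d = 1 := by
    intro d hd
    have h3 : (η ^ 2) d = 1 := by rw [h2]; exact MulChar.one_apply (Ne.isUnit hd)
    rwa [MulChar.pow_apply' _ two_ne_zero, sq] at h3
  -- the cardinality
  have hcard : ((univ.filter fun x : K => x * (s - x) = a * a).card : ℂ) = 1 + η (s - 2 * a) * η (s + 2 * a) := by
    rw [← map_mul, ← card_sqrt hK h1 h2]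
    congr 1
    refine card_bij (fun x _ => 2 * x - s) ?_ ?_ ?_
    · intro x hx
      rw [mem_filter] at hx ⊢
      refine ⟨mem_univ _, ?_⟩
      linear_combination (-4 : K) * hx.2
    · intro x _ y _ hxy
      have h3 : 2 * x = 2 * y := by linear_combination hxy
      exact mul_left_cancel₀ h20 h3
    · intro y hy
      rw [mem_filter] at hy
      refine ⟨(y + s) / 2, ?_, by field_simp; ring⟩
      rw [mem_filter]
      refine ⟨mem_univ _, ?_⟩
      field_simp
      linear_combination (-1 : K) * hy.2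
  have key : ∀ e : K, e * e = a * a → e ≠ 0 → s + 2 * e ≠ 0 → ∀ x : K, x * (s - x) = a * a → η x = η (s + 2 * e) := by
    intro e he he0 hse x hx
    have hx0 : x ≠ 0 := by
      rintro rfl
      rw [zero_mul] at hx
      exact ha (mul_self_eq_zero.1 hx.symm)
    have h3 : x * (s + 2 * e) = (x + e) * (x + e) := by linear_combination hx - he
    have h4 : x + e ≠ 0 := by
      intro h
      rw [h, mul_zero] at h3
      rcases mul_eq_zero.1 h3 with h5 | h5
      · exact hx0 h5
      · exact hse h5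
    have h5 : η x * η (s + 2 * e) = 1 := by rw [← map_mul, h3, map_mul, hsq _ h4]
    have h6 := hsq (s + 2 * e) hse
    calc η x = η x * (η (s + 2 * e) * η (s + 2 * e)) := by rw [h6, mul_one]
      _ = (η x * η (s + 2 * e)) * η (s + 2 * e) := by ring
      _ = _ := by rw [h5, one_mul]
  by_cases hs : s + 2 * a = 0
  · -- `s - 2 a = - 4 a`
    have hs' : s + 2 * (-a) ≠ 0 := by
      intro h
      have h3 : 2 * (2 * a) = 0 := by linear_combination hs - h
      exact ha ((mul_eq_zero.1 ((mul_eq_zero.1 h3).resolve_left h20)).resolve_left h20)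
    have e : s + 2 * (-a) = s - 2 * a := by ring
    rw [sum_congr rfl fun x hx => key (-a) (by ring) (neg_ne_zero.2 ha) hs' x (mem_filter.1 hx).2, sum_const,
      nsmul_eq_mul, hcard, e]
    rw [e] at hs'
    have h3 := hsq _ hs'
    linear_combination η (s + 2 * a) * h3
  · rw [sum_congr rfl fun x hx => key a rfl ha hs x (mem_filter.1 hx).2, sum_const, nsmul_eq_mul, hcard]
    have h3 := hsq _ hs
    linear_combination η (s - 2 * a) * h3

open Classical in
theorem coeff {χ η : MulChar K ℂ} (hK : ringChar K ≠ 2) (h1 : η ≠ 1) (h2 : η ^ 2 = 1) (s : K) :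
    ∑ x : K, χ x * (χ * η) (s - x) = ∑ a : K, (χ ^ 2) a * η (s - 2 * a) := by
  have hsq : ∀ d : K, d ≠ 0 → η d * η d = 1 := by
    intro d hd
    have h3 : (η ^ 2) d = 1 := by rw [h2]; exact MulChar.one_apply (Ne.isUnit hd)
    rwa [MulChar.pow_apply' _ two_ne_zero, sq] at h3
  -- the double sum
  have hD1 : ∑ x : K, ∑ a ∈ univ.filter (fun a : K => a * a = x * (s - x)), χ (x * (s - x)) * η x =
      2 * ∑ x : K, χ x * (χ * η) (s - x) := by
    have h3 : ∀ x : K, ∑ a ∈ univ.filter (fun a : K => a * a = x * (s - x)), χ (x * (s - x)) * η x =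
        χ x * χ (s - x) * η x + χ x * χ (s - x) * η (s - x) := by
      intro x
      rw [sum_const, nsmul_eq_mul, card_sqrt hK h1 h2, map_mul, map_mul]
      by_cases hx : x = 0
      · subst hx
        simp only [MulChar.map_zero]; ring
      · have h4 := hsq x hx
        linear_combination (χ x * χ (s - x) * η (s - x)) * h4
    rw [sum_congr rfl fun x _ => h3 x, sum_add_distrib]
    have h4 : ∑ x : K, χ x * χ (s - x) * η x = ∑ x : K, χ x * χ (s - x) * η (s - x) := by
      refine Fintype.sum_equiv (Equiv.subLeft s) _ _ fun x => ?_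
      rw [Equiv.subLeft_apply, sub_sub_cancel]; ring
    rw [h4, ← two_mul]
    congr 1
    refine sum_congr rfl fun x _ => ?_
    rw [MulChar.mul_apply]; ring
  have hD2 : ∑ x : K, ∑ a ∈ univ.filter (fun a : K => a * a = x * (s - x)), χ (x * (s - x)) * η x =
      2 * ∑ a : K, (χ ^ 2) a * η (s - 2 * a) := by
    have h3 : ∑ x : K, ∑ a ∈ univ.filter (fun a : K => a * a = x * (s - x)), χ (x * (s - x)) * η x =
        ∑ a : K, ∑ x ∈ univ.filter (fun x : K => x * (s - x) = a * a), χ (a * a) * η x := by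
      simp only [sum_filter]
      rw [sum_comm]
      refine sum_congr rfl fun a _ => sum_congr rfl fun x _ => ?_
      by_cases h : a * a = x * (s - x)
      · rw [if_pos h, if_pos h.symm, h]
      · rw [if_neg h, if_neg fun h' => h h'.symm]
    have h4 : ∀ a : K, ∑ x ∈ univ.filter (fun x : K => x * (s - x) = a * a), χ (a * a) * η x =
        (χ ^ 2) a * η (s - 2 * a) + (χ ^ 2) a * η (s + 2 * a) := by
      intro a
      rw [← mul_sum, MulChar.pow_apply' _ two_ne_zero, sq, map_mul]
      by_cases ha : a = 0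
      · subst ha
        rw [MulChar.map_zero]; ring
      · rw [star hK h1 h2 s a ha]; ring
    rw [h3, sum_congr rfl fun a _ => h4 a, sum_add_distrib, two_mul]
    congr 1
    refine Fintype.sum_equiv (Equiv.neg K) _ _ fun a => ?_
    rw [Equiv.neg_apply, MulChar.pow_apply' _ two_ne_zero, MulChar.pow_apply' _ two_ne_zero]
    have h5 : χ (-a) ^ 2 = χ a ^ 2 := by rw [← map_pow, ← map_pow, neg_sq]
    rw [h5]
    congr 2
    ring
  have h3 := hD1.symm.trans hD2
  exact mul_left_cancel₀ two_ne_zero h3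

/-- **Hasse-Davenport for `2`.** -/
theorem hdTwo : HDTwo := by
  intro K _ _ χ η ψ _ hK h1 h2
  rw [gaussSum_mul]
  have h3 : gaussSum (χ ^ 2) (ψ.mulShift 2) * gaussSum η ψ = ∑ t : K, ∑ a : K, (χ ^ 2) a * η (t - 2 * a) * ψ t := by
    rw [gaussSum, gaussSum, sum_mul_sum, sum_comm]
    rw [sum_comm, sum_comm (s := univ (α := K)) (t := univ (α := K)) (f := fun t a => (χ ^ 2) a * η (t - 2 * a) * ψ t)]
    refine sum_congr rfl fun a _ => ?_
    refine Fintype.sum_equiv (Equiv.addRight (2 * a)) _ _ fun b => ?_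
    rw [Equiv.coe_addRight, AddChar.mulShift_apply, add_sub_cancel_right, AddChar.map_add_eq_mul]
    ring
  rw [h3]
  refine sum_congr rfl fun t _ => ?_
  rw [← sum_mul, ← sum_mul, coeff hK h1 h2]

end Cfsg.Agent.H521.KGV.HdTwo
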