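import Cfsg.Agent.H644.KGV.Goals
import Cfsg.Agent.H500.KGV.Eig

/-!
# KGV MAIN: the absolute value and the divisibility of `kap` (helper521)

* `frob_induction` : induction over multisets invariant under `z ↦ z ^ q`, one orbit at a time;
* `kap_norm`, `kap_ideal`.
-/

set_option autoImplicit false

namespace Cfsg.Agent.H521.KGV.Norm

open Cfsg Finset Cfsg.Agent.H644.KGV

/-- the Frobenius orbit -/
def orb (q : ℕ) (z : ℂ) (e : ℕ) : Multiset ℂ := (Multiset.range e).map fun i => z ^ (q ^ i)

theorem orb_map {q : ℕ} {z : ℂ} {e : ℕ} (he : 1 ≤ e) (hz : z ^ (q ^ e) = z) :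
    (orb q z e).map (fun w => w ^ q) = orb q z e := by
  obtain ⟨k, rfl⟩ : ∃ k, e = k + 1 := ⟨e - 1, by omega⟩
  have h1 : (orb q z (k + 1)).map (fun w => w ^ q) =
      (z ^ (q ^ (k + 1))) ::ₘ (Multiset.range k).map fun i => z ^ (q ^ (i + 1)) := by
    unfold orb
    rw [Multiset.map_map, Multiset.range_succ, Multiset.map_cons]
    congr 1
    · rw [Function.comp_apply, ← pow_mul, ← pow_succ]
    · refine Multiset.map_congr rfl fun i _ => ?_
      rw [Function.comp_apply, ← pow_mul, ← pow_succ]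
  have h2 : orb q z (k + 1) = (z ^ (q ^ 0)) ::ₘ (Multiset.range k).map fun i => z ^ (q ^ (i + 1)) := by
    unfold orb
    have h3 : Multiset.range (k + 1) = 0 ::ₘ (Multiset.range k).map Nat.succ := by
      show ((List.range (k + 1) : List ℕ) : Multiset ℕ) = _
      rw [List.range_succ_eq_map]
      rfl
    rw [h3, Multiset.map_cons, Multiset.map_map]
    rfl
  rw [h1, h2, hz, pow_zero, pow_one]

theorem orb_map_prod {q : ℕ} {z : ℂ} {e : ℕ} (F : ℂ → ℂ) :
    ((orb q z e).map F).prod = ∏ i ∈ Finset.range e, F (z ^ (q ^ i)) := by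
  unfold orb
  rw [Multiset.map_map]
  rfl

/-- **Induction over Frobenius invariant multisets.** -/
theorem frob_induction {q : ℕ} {P : Multiset ℂ → Prop} (h0 : P 0)
    (hadd : ∀ (z : ℂ) (e : ℕ) (M : Multiset ℂ), 1 ≤ e → z ^ (q ^ e) = z → (orb q z e).Nodup → z ≠ 0 → P M →
      P (orb q z e + M)) : ∀ (M : Multiset ℂ), M.map (fun z => z ^ q) = M →
      (∀ z ∈ M, z ≠ 0 ∧ ∃ e, 1 ≤ e ∧ z ^ (q ^ e) = z) → P M := by
  classical
  intro M
  induction hn : M.card using Nat.strong_induction_on generalizing M with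
  | _ n ih =>
    intro hM hfin
    by_cases hM0 : M = 0
    · rw [hM0]; exact h0
    obtain ⟨z, hz⟩ := Multiset.exists_mem_of_ne_zero hM0
    obtain ⟨hz0, hex⟩ := hfin z hz
    obtain ⟨he1, hez⟩ := Nat.find_spec hex
    have hmin : ∀ k, k < Nat.find hex → 1 ≤ k → z ^ (q ^ k) ≠ z := fun k hk h1 h2 => Nat.find_min hex hk ⟨h1, h2⟩
    set e := Nat.find hex with he
    have hnd : (orb q z e).Nodup := by
      refine Multiset.Nodup.map_on ?_ (Multiset.nodup_range e)
      have key : ∀ i j, i < j → j < e → z ^ (q ^ i) ≠ z ^ (q ^ j) := by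
        intro i j hij hje h
        have h1 : z ^ (q ^ (i + (e - j))) = z := by
          have h2 := congrArg (fun w : ℂ => w ^ (q ^ (e - j))) h
          simp only [← pow_mul, ← pow_add] at h2
          rw [h2, show j + (e - j) = e by omega, hez]
        exact hmin (i + (e - j)) (by omega) (by omega) h1
      intro i hi j hj h
      rw [Multiset.mem_range] at hi hj
      rcases lt_trichotomy i j with h1 | h1 | h1
      · exact absurd h (key i j h1 hj)
      · exact h1
      · exact absurd h.symm (key j i h1 hi)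
    have hmem : ∀ i, z ^ (q ^ i) ∈ M := by
      intro i
      induction i with
      | zero => rwa [pow_zero, pow_one]
      | succ i ihi =>
        rw [pow_succ, pow_mul, ← hM]
        exact Multiset.mem_map_of_mem (fun z => z ^ q) ihi
    have hle : orb q z e ≤ M := by
      rw [Multiset.le_iff_subset hnd]
      intro w hw
      obtain ⟨i, -, rfl⟩ := Multiset.mem_map.1 hw
      exact hmem i
    obtain ⟨M', rfl⟩ := Multiset.le_iff_exists_add.1 hle
    have hM' : M'.map (fun z => z ^ q) = M' := by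
      rw [Multiset.map_add, orb_map he1 hez] at hM
      exact add_left_cancel hM
    have hcard : (orb q z e).card = e := by rw [orb, Multiset.card_map, Multiset.card_range]
    refine hadd z e M' he1 hez hnd hz0 (ih M'.card ?_ M' rfl hM' fun w hw => hfin w (Multiset.mem_add.2 (Or.inr hw)))
    rw [← hn, Multiset.card_add, hcard]
    omega

section

variable {p : ℕ} [hp : Fact p.Prime] {T : ℕ → ℕ → ZMod p}

theorem isIntegral_stdAddChar (x : ZMod p) : IsIntegral ℤ (ZMod.stdAddChar x : ℂ) := by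
  have h1 : (ZMod.stdAddChar x : ℂ) ^ p = 1 := by
    rw [← AddChar.map_nsmul_eq_pow]
    simp
  exact IsIntegral.of_pow hp.out.pos (by rw [h1]; exact isIntegral_one)

theorem isIntegral_of_pow_eq_one {z : ℂ} {n : ℕ} (hn : 0 < n) (h : z ^ n = 1) : IsIntegral ℤ z :=
  IsIntegral.of_pow hn (by rw [h]; exact isIntegral_one)

/-- Gauss sums are algebraic integers. -/
theorem isIntegral_PG {f : ℕ} (hf : 1 ≤ f) (a : ZMod p) {z : ℂ} (hz : z ^ (p ^ f - 1) = 1) :
    IsIntegral ℤ (PG p T f a z) := by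
  unfold PG
  refine IsIntegral.neg (IsIntegral.sum _ fun j _ => IsIntegral.mul (isIntegral_stdAddChar _) ?_)
  have h1 : 1 < p ^ f := Nat.one_lt_pow (by omega) hp.out.one_lt
  exact (isIntegral_of_pow_eq_one (by omega) hz).pow j

theorem pow_sub_one {z : ℂ} {n : ℕ} (hz0 : z ≠ 0) (hn : 1 ≤ n) (h : z ^ n = z) : z ^ (n - 1) = 1 := by
  obtain ⟨k, rfl⟩ : ∃ k, n = k + 1 := ⟨n - 1, by omega⟩
  rw [pow_succ] at h
  exact mul_right_cancel₀ hz0 (by rw [Nat.add_sub_cancel, h, one_mul])

/-- the absolute value, integrality and divisibility for a Frobenius invariant multiset -/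
theorem good (hT : GaussSys p T) {a : ZMod p} (ha : a ≠ 0) {F : ℂ → ℂ} (hF : OrbFun p T 1 a F) (M : Multiset ℂ)
    (hM : M.map (fun z => z ^ p) = M) (hfin : ∀ z ∈ M, z ≠ 0 ∧ ∃ e, 1 ≤ e ∧ z ^ (p ^ e) = z) :
    ‖(M.map F).prod‖ ^ 2 * (p : ℝ) ^ (M.count 1) = (p : ℝ) ^ M.card ∧ IsIntegral ℤ (M.map F).prod ∧
      ∀ z ∈ M, z ≠ 1 → ∃ y : ℂ, IsIntegral ℤ y ∧
        (M.map F).prod = (1 - (ZMod.stdAddChar (1 : ZMod p) : ℂ)) * y := by
  refine frob_induction (P := fun M => ‖(M.map F).prod‖ ^ 2 * (p : ℝ) ^ (M.count 1) = (p : ℝ) ^ M.card ∧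
    IsIntegral ℤ (M.map F).prod ∧ ∀ z ∈ M, z ≠ 1 → ∃ y : ℂ, IsIntegral ℤ y ∧
        (M.map F).prod = (1 - (ZMod.stdAddChar (1 : ZMod p) : ℂ)) * y) ?_ ?_ M hM hfin
  · refine ⟨by simp, by simpa using isIntegral_one, fun z hz => absurd hz (Multiset.notMem_zero z)⟩
  · rintro z e M he hez hnd hz0 ⟨h1, h2, h3⟩
    have hpos : 1 ≤ p ^ e := Nat.one_le_pow _ _ hp.out.pos
    have hz1 : z ^ (p ^ e - 1) = 1 := pow_sub_one hz0 hpos hez
    have hprod : ((orb p z e).map F).prod = PG p T e a z := by
      rw [orb_map_prod]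
      have := hF e z he (by rw [one_mul]; exact hz1)
      simpa only [one_mul] using this
    have hcard : (orb p z e).card = e := by rw [orb, Multiset.card_map, Multiset.card_range]
    rw [Multiset.map_add, Multiset.prod_add, Multiset.card_add, Multiset.count_add, hprod, hcard, norm_mul, mul_pow,
      pow_add, pow_add]
    by_cases hz : z = 1
    · subst hz
      -- the orbit is `{1}`
      have he1 : e = 1 := by
        by_contra hne
        have h4 := (Multiset.nodup_iff_count_le_one.1 hnd) 1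
        have h5 : orb p (1 : ℂ) e = Multiset.replicate e 1 := by
          unfold orb
          simp only [one_pow]
          rw [Multiset.map_const', Multiset.card_range]
        rw [h5, Multiset.count_replicate_self] at h4
        omega
      subst he1
      have hone := hT.one 1 a le_rfl ha
      have hcnt : (orb p (1 : ℂ) 1).count 1 = 1 := by simp [orb]
      rw [hone, hcnt]
      refine ⟨?_, ?_, ?_⟩
      · rw [← h1]; simp; ring
      · rw [one_mul]; exact h2
      · intro w hw hw1
        rw [one_mul]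
        refine h3 w ?_ hw1
        rcases Multiset.mem_add.1 hw with h | h
        · exfalso
          apply hw1
          obtain ⟨i, -, rfl⟩ := Multiset.mem_map.1 h
          rw [one_pow]
        · exact h
    · have hcnt : (orb p z e).count 1 = 0 := by
        rw [Multiset.count_eq_zero]
        intro hmem
        obtain ⟨i, hi, h4⟩ := Multiset.mem_map.1 hmem
        rw [Multiset.mem_range] at hi
        apply hz
        rw [← hez, show e = i + (e - i) by omega, pow_add, pow_mul, h4, one_pow]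
      obtain ⟨y, hy, hy'⟩ := hT.ideal e a z he hz1 hz
      rw [hcnt, hT.norm e a z he ha hz1 hz]
      refine ⟨?_, ?_, ?_⟩
      · rw [← h1]; ring
      · exact IsIntegral.mul (isIntegral_PG he a hz1) h2
      · intro w hw hw1
        exact ⟨y * (M.map F).prod, hy.mul h2, by rw [hy']; ring⟩

end

/-! ### the class functions of the k(GV) problem -/

section kdata

open Cfsg.Agent.H500.KGV

universe u

theorem frob_period {n q : ℕ} (h : q.Coprime n) {z : ℂ} (hz : z ^ n = 1) : ∃ e, 1 ≤ e ∧ z ^ (q ^ e) = z := by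
  rcases Nat.eq_zero_or_pos n with h0 | h0
  · subst h0
    rw [Nat.coprime_zero_right] at h
    exact ⟨1, le_rfl, by rw [h]; simp⟩
  refine ⟨n.totient, Nat.totient_pos.2 h0, ?_⟩
  have h1 := Nat.ModEq.pow_totient h
  have h2 : ∀ k, z ^ k = z ^ (k % n) := by
    intro k
    conv_lhs => rw [← Nat.div_add_mod k n]
    rw [pow_add, pow_mul, hz, one_pow, one_mul]
  rw [h2, h1, ← h2, pow_one]

theorem kData_of {p : ℕ} [hp : Fact p.Prime] {X : Type u} [Group X] [Finite X] {V G : Subgroup X}
    {T : ℕ → ℕ → ZMod p} (hT : GaussSys p T) {β : G → ℂ} (hβ : IsCharacter G β) (hfr : ∀ g : G, β (g ^ p) = β g)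
    {n : ℕ} (hn : Nat.card V = p ^ n) (hc : ∀ g : G, (eig β g).card = n ∧
      Nat.card ↥(V ⊓ Subgroup.centralizer ({(g : X)} : Set X)) = p ^ ((eig β g).count 1))
    (hpG : ¬ p ∣ Nat.card G) (hV : Subgroup.centralizer (V : Set X) = V) (hVG : V ⊓ G = ⊥)
    {F : ZMod p → ℂ → ℂ} (hF : ∀ a, a ≠ 0 → OrbFun p T 1 a (F a))
    (huint : UInt p G (fun a => kap (F a) β)) : KData p V G (fun a => kap (F a) β) := by
  have hM : ∀ g : G, (eig β g).map (fun z => z ^ p) = eig β g := fun g => eig_map_pow hβ hfr g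
  have hfin : ∀ g : G, ∀ z ∈ eig β g, z ≠ 0 ∧ ∃ e, 1 ≤ e ∧ z ^ (p ^ e) = z := by
    intro g z hz
    refine ⟨ne_zero_of_mem_eig hz, frob_period (n := Nat.card G) ?_ (pow_card_of_mem_eig hz)⟩
    exact (Nat.Prime.coprime_iff_not_dvd hp.out).2 hpG
  have key := fun (a : ZMod p) (ha : a ≠ 0) (g : G) => good hT ha (hF a ha) (eig β g) (hM g) (hfin g)
  refine ⟨huint, ?_, ?_, ?_⟩
  · intro a ha
    have h1 : eig β 1 = Multiset.replicate n 1 := by
      obtain ⟨h2, -⟩ := hc 1
      rw [Multiset.eq_replicate]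
      refine ⟨h2, fun z hz => ?_⟩
      have h3 := pow_of_mem_eig hz (n := 1) (one_pow 1)
      rwa [pow_one] at h3
    have h2 : F a 1 = 1 := by
      have h3 := hF a ha 1 1 le_rfl (one_pow _)
      rw [Finset.prod_range_one, one_pow, hT.one _ _ (by norm_num) ha] at h3
      exact h3
    show ((eig β 1).map (F a)).prod = 1
    rw [h1, Multiset.map_replicate, Multiset.prod_replicate, h2, one_pow]
  · intro a ha g
    obtain ⟨h1, -, -⟩ := key a ha g
    obtain ⟨h2, h3⟩ := hc g
    rw [h2] at h1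
    rw [h3, hn]
    push_cast
    exact h1
  · intro a ha g hg
    obtain ⟨-, -, h1⟩ := key a ha g
    obtain ⟨z, hz, hz1⟩ : ∃ z ∈ eig β g, z ≠ 1 := by
      by_contra hcon
      push Not at hcon
      obtain ⟨h2, h3⟩ := hc g
      have h4 : (eig β g).count 1 = n := by
        rw [Multiset.eq_replicate.2 ⟨h2, hcon⟩, Multiset.count_replicate_self]
      rw [h4, ← hn] at h3
      have h5 : V ⊓ Subgroup.centralizer ({(g : X)} : Set X) = V :=
        Subgroup.eq_of_le_of_card_ge inf_le_left h3.ge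
      have h6 : (g : X) ∈ Subgroup.centralizer (V : Set X) := by
        rw [Subgroup.mem_centralizer_iff]
        intro v hv
        have h7 : v ∈ V ⊓ Subgroup.centralizer ({(g : X)} : Set X) := h5.symm ▸ hv
        exact (Subgroup.mem_centralizer_singleton_iff.1 h7.2)
      rw [hV] at h6
      have h8 : (g : X) ∈ V ⊓ G := ⟨h6, g.2⟩
      rw [hVG, Subgroup.mem_bot] at h8
      exact hg (Subtype.ext h8)
    exact h1 z hz hz1

end kdata

end Cfsg.Agent.H521.KGV.Norm
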